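import Cfsg.Agent.H997.OutCard
import Cfsg.Agent.UGT.End.McLOuter
import Cfsg.Agent.TypeM.FactsMcL
import Cfsg.Agent.CTwoTab.Co3
import Cfsg.Agent.S1579
import Mathlib.Algebra.Group.Subgroup.Basic
import Cfsg.Agent.FastGrp
import Cfsg.Agent.Prune
set_option linter.all false
prune_inst 0x7f00000000000000000000000000000000000000000000000000000000000000000000000000000000000000000000000000000000000000000000000000000000000000000000000000000000000000003fffffffffffffffffffffffffffbeffbdffffffff
open scoped Cfsg.Agent.FastGrp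

/-!
# The outer automorphism group of `McL` (helper997)
-/

set_option autoImplicit false

namespace Cfsg.Agent.H997.OutMcL

open Cfsg Cfsg.Spor Subgroup

/-- the third vector of the triangle -/
def W : leechLattice := -leechV - leechU

theorem mem_McL {x : Equiv.Perm leechLattice} : x ∈ McL ↔ x ∈ Co0 ∧ x leechV = leechV ∧ x leechU = leechU := by
  constructor
  · rintro ⟨⟨h1, h2⟩, h3⟩; exact ⟨h1, h2, h3⟩
  · rintro ⟨h1, h2, h3⟩; exact ⟨⟨h1, h2⟩, h3⟩

theorem map_zero' {x : Equiv.Perm leechLattice} (hx : x ∈ Co0) : x 0 = 0 := by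
  have h := hx.1 0 0
  rw [add_zero] at h
  exact (left_eq_add (a := x 0) (b := x 0)).1 h

theorem map_neg' {x : Equiv.Perm leechLattice} (hx : x ∈ Co0) (v : leechLattice) : x (-v) = - x v := by
  have h := hx.1 v (-v)
  rw [add_neg_cancel, map_zero' hx] at h
  exact (neg_eq_of_add_eq_zero_right h.symm).symm

theorem map_sub' {x : Equiv.Perm leechLattice} (hx : x ∈ Co0) (v w : leechLattice) : x (v - w) = x v - x w := by
  rw [sub_eq_add_neg, hx.1, map_neg' hx, ← sub_eq_add_neg]

theorem map_W {x : Equiv.Perm leechLattice} (hx : x ∈ Co0) (hV : x leechV = leechV) : x W = - leechV - x leechU := by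
  rw [W, map_sub' hx, map_neg' hx, hV]

theorem coe_negV : ((-leechV : leechLattice) : GolayPt → ℤ) = fun p => if p = none then 5 else 1 := by
  funext p
  show -(vecV p) = _
  unfold vecV
  split_ifs <;> norm_num

theorem coe_U : ((leechU : leechLattice) : GolayPt → ℤ) = vecU := rfl

theorem W_ne : W ≠ leechU := by
  intro h
  have h1 := congrArg (fun v : leechLattice => (v : GolayPt → ℤ) (some 1)) h
  have h2 : (W : GolayPt → ℤ) (some 1) = 1 := by
    show -(vecV (some 1)) - vecU (some 1) = 1
    decide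
  have h3 : (leechU : GolayPt → ℤ) (some 1) = 0 := by
    show vecU (some 1) = 0
    decide
  simp only [h2, h3] at h1
  exact one_ne_zero h1

/-- an element of `Co₃` which interchanges `U` and `W` -/
theorem exists_swap : ∃ f : Equiv.Perm leechLattice, f ∈ Co0 ∧ f leechV = leechV ∧ f leechU = W ∧ f W = leechU := by
  have h48 : sqNorm ((-leechV : leechLattice) : GolayPt → ℤ) = 48 := by
    rw [coe_negV]; decide +kernel
  have h32 : sqNorm ((leechU : leechLattice) : GolayPt → ℤ) = 32 := by
    rw [coe_U]; decide +kernel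
  have hd : sqNorm (((-leechV : leechLattice) : GolayPt → ℤ) - ((leechU : leechLattice) : GolayPt → ℤ)) = 32 := by
    rw [coe_negV, coe_U]; decide +kernel
  have hW : ((W : leechLattice) : GolayPt → ℤ) =
      ((-leechV : leechLattice) : GolayPt → ℤ) - ((leechU : leechLattice) : GolayPt → ℤ) := rfl
  obtain ⟨g, h1, h2⟩ := S1579.result (-leechV) leechU W h48 ⟨h32, hd⟩ ⟨by rw [hW]; exact hd, by
    rw [hW]
    have : ((-leechV : leechLattice) : GolayPt → ℤ) - (((-leechV : leechLattice) : GolayPt → ℤ) -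
      ((leechU : leechLattice) : GolayPt → ℤ)) = ((leechU : leechLattice) : GolayPt → ℤ) := by abel
    rw [this]; exact h32⟩
  have hg : (g : Equiv.Perm leechLattice) ∈ Co0 := g.2
  have h1' : (g : Equiv.Perm leechLattice) (-leechV) = -leechV := h1
  have hV : (g : Equiv.Perm leechLattice) leechV = leechV := by
    rw [map_neg' hg] at h1'
    exact neg_injective h1'
  have hU : (g : Equiv.Perm leechLattice) leechU = W := h2
  refine ⟨g, hg, hV, hU, ?_⟩
  rw [map_W hg hV, hU, W]; abel

/-- conjugation by an element interchanging `U` and `W` normalises `McL` -/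
theorem mem_normalizer {f : Equiv.Perm leechLattice} (hf : f ∈ Co0) (hV : f leechV = leechV) (hU : f leechU = W)
    (hW : f W = leechU) : f ∈ Subgroup.normalizer (McL : Set (Equiv.Perm leechLattice)) := by
  rw [Subgroup.mem_normalizer_iff]
  have hV' : f⁻¹ leechV = leechV := by rw [Equiv.Perm.inv_eq_iff_eq, hV]
  have hU' : f⁻¹ leechU = W := by rw [Equiv.Perm.inv_eq_iff_eq, hW]
  have hW' : f⁻¹ W = leechU := by rw [Equiv.Perm.inv_eq_iff_eq, hU]
  intro x
  constructor
  · intro hx
    obtain ⟨h0, h1, h2⟩ := mem_McL.1 hx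
    have h3 : x W = W := by rw [map_W h0 h1, h2]; rfl
    refine mem_McL.2 ⟨mul_mem (mul_mem hf h0) (inv_mem hf), ?_, ?_⟩
    · rw [Equiv.Perm.mul_apply, Equiv.Perm.mul_apply, hV', h1, hV]
    · rw [Equiv.Perm.mul_apply, Equiv.Perm.mul_apply, hU', h3, hW]
  · intro hx
    obtain ⟨h0, h1, h2⟩ := mem_McL.1 hx
    have e : x = f⁻¹ * (f * x * f⁻¹) * f := by group
    have h3 : (f * x * f⁻¹) W = W := by rw [map_W h0 h1, h2]; rfl
    rw [e]
    refine mem_McL.2 ⟨mul_mem (mul_mem (inv_mem hf) h0) hf, ?_, ?_⟩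
    · rw [Equiv.Perm.mul_apply (f⁻¹ * (f * x * f⁻¹)) f, hV, Equiv.Perm.mul_apply f⁻¹, h1, hV']
    · rw [Equiv.Perm.mul_apply (f⁻¹ * (f * x * f⁻¹)) f, hU, Equiv.Perm.mul_apply f⁻¹, h3, hW']

open Cfsg.Agent.SporRec.Co3.Chain in
/-- an involution of `Co₃` does not centralise `McL` -/
theorem no_central {c : G3} (hc1 : c ≠ 1) (hc2 : c * c = 1)
    (hcen : ∀ x : Equiv.Perm leechLattice, x ∈ McL → ((c : Co0) : Equiv.Perm leechLattice) * x = x * ((c : Co0) : Equiv.Perm leechLattice)) :
    False := by
  obtain ⟨w, D⟩ := CTwoTab.Co3.exists_data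
  have hfin := CTwoTab.Co3.finite_G3
  obtain ⟨-, -, hcard, -⟩ := TypeM.FactsMcL.exists_mt_mcl
  -- `McL` embeds in the centralizer
  have hd : 898128000 ∣ Nat.card (centralizer ({c} : Set G3)) := by
    let j : McL →* centralizer ({c} : Set G3) :=
      { toFun := fun x => ⟨⟨⟨(x : Equiv.Perm leechLattice), (mem_McL.1 x.2).1⟩, (mem_McL.1 x.2).2.1⟩, by
          rw [Subgroup.mem_centralizer_singleton_iff]
          apply Subtype.ext
          apply Subtype.ext
          exact (hcen x x.2).symm⟩
        map_one' := rfl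
        map_mul' := fun _ _ => rfl }
    have hj : Function.Injective j := by
      intro a b hab
      have := congrArg (fun z : centralizer ({c} : Set G3) => (((z : G3) : Co0) : Equiv.Perm leechLattice)) hab
      exact Subtype.ext this
    rw [← hcard]
    exact Subgroup.card_dvd_of_injective j hj
  have ho : orderOf c = 2 := orderOf_eq_prime (by rw [pow_two, hc2]) hc1
  obtain ⟨g, hg⟩ := D.cls c ho
  have hcc : ∀ a b : G3, a = g * b * g⁻¹ →
      Nat.card (centralizer ({a} : Set G3)) = Nat.card (centralizer ({b} : Set G3)) := by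
    rintro a b rfl
    refine Nat.card_congr ⟨fun y => ⟨g⁻¹ * y * g, ?_⟩, fun y => ⟨g * y * g⁻¹, ?_⟩, fun y => ?_, fun y => ?_⟩
    · have := Subgroup.mem_centralizer_singleton_iff.1 y.2
      rw [Subgroup.mem_centralizer_singleton_iff]
      calc g⁻¹ * (y : G3) * g * b = g⁻¹ * ((y : G3) * (g * b * g⁻¹)) * g := by group
        _ = g⁻¹ * ((g * b * g⁻¹) * (y : G3)) * g := by rw [this]
        _ = b * (g⁻¹ * (y : G3) * g) := by group
    · have := Subgroup.mem_centralizer_singleton_iff.1 y.2
      rw [Subgroup.mem_centralizer_singleton_iff]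
      calc g * (y : G3) * g⁻¹ * (g * b * g⁻¹) = g * ((y : G3) * b) * g⁻¹ := by group
        _ = g * (b * (y : G3)) * g⁻¹ := by rw [this]
        _ = (g * b * g⁻¹) * (g * (y : G3) * g⁻¹) := by group
    · apply Subtype.ext
      show g * (g⁻¹ * (y : G3) * g) * g⁻¹ = y
      group
    · apply Subtype.ext
      show g⁻¹ * (g * (y : G3) * g⁻¹) * g = y
      group
  rcases hg with hg | hg
  · obtain ⟨π, N⟩ := D.ns
    have h1 := CTwoTab.Co3.card_of_NS N
    rw [hcc _ _ hg, h1] at hd
    revert hd
    norm_num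
  · obtain ⟨f, hf, hk⟩ := D.hom
    rw [hcc _ _ hg] at hd
    have h1 : Nat.card (centralizer ({w} : Set G3)) = Nat.card f.ker * 95040 := by
      have h2 := Subgroup.card_mul_index f.ker
      rw [Subgroup.index_ker, MonoidHom.range_eq_top.2 hf, Subgroup.card_top, D.card] at h2
      exact h2.symm
    have h3 : Nat.card f.ker ≤ 2 := by
      have hwm : w ∈ centralizer ({w} : Set G3) := Subgroup.mem_centralizer_singleton_iff.2 rfl
      have h4 : (f.ker : Set (centralizer ({w} : Set G3))) ⊆ {1, ⟨w, hwm⟩} := by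
        intro x hx
        rcases hk x hx with h | h
        · exact Or.inl h
        · exact Or.inr (Subtype.ext h)
      have h5 := Set.ncard_le_ncard h4 (Set.toFinite _)
      have h6 : Nat.card f.ker = (f.ker : Set (centralizer ({w} : Set G3))).ncard := rfl
      rw [h6]
      exact h5.trans (Set.ncard_insert_le _ _ |>.trans (by rw [Set.ncard_singleton]))
    have h7 := Nat.le_of_dvd Nat.card_pos hd
    rw [h1] at h7
    omega

/-- **`Out McL` has order two.** -/
theorem card_out : Nat.card (Cfsg.Out ↥McL) = 2 := by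
  obtain ⟨hfin, hsimple, hcard, ⟨L⟩⟩ := TypeM.FactsMcL.exists_mt_mcl
  obtain ⟨f, hf, hV, hU, hW⟩ := exists_swap
  have hn := mem_normalizer hf hV hU hW
  have hG : TypeM.FactsAut.Gen L := TypeM.FactsAut.gen L (Or.inl ⟨rfl, hcard⟩)
  have hne : ∀ β : MulAut McL, (∀ g, β ≠ MulAut.conj g) → β ∉ (MulAut.conj : McL →* MulAut McL).range := by
    rintro β hβ ⟨g, hg⟩; exact hβ g hg.symm
  refine OutCard.card_eq_two (α := Subgroup.normalizerMonoidHom McL ⟨f, hn⟩) ?_ (OutCard.index_dvd ?_)
  · intro k hk
    have hkm := mem_McL.1 k.2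
    -- `c = k⁻¹ f`
    have hcV : ((k : Equiv.Perm leechLattice)⁻¹ * f) leechV = leechV := by
      rw [Equiv.Perm.mul_apply, hV, Equiv.Perm.inv_eq_iff_eq, hkm.2.1]
    have hkW : (k : Equiv.Perm leechLattice) W = W := by rw [map_W hkm.1 hkm.2.1, hkm.2.2]; rfl
    have hcU : ((k : Equiv.Perm leechLattice)⁻¹ * f) leechU = W := by
      rw [Equiv.Perm.mul_apply, hU, Equiv.Perm.inv_eq_iff_eq, hkW]
    have hcW : ((k : Equiv.Perm leechLattice)⁻¹ * f) W = leechU := by
      rw [Equiv.Perm.mul_apply, hW, Equiv.Perm.inv_eq_iff_eq, hkm.2.2]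
    have hc0 : (k : Equiv.Perm leechLattice)⁻¹ * f ∈ Co0 := mul_mem (inv_mem hkm.1) hf
    have hcen : ∀ x : Equiv.Perm leechLattice, x ∈ McL →
        ((k : Equiv.Perm leechLattice)⁻¹ * f) * x = x * ((k : Equiv.Perm leechLattice)⁻¹ * f) := by
      intro x hx
      have h2 : f * x * f⁻¹ = k * x * (k : Equiv.Perm leechLattice)⁻¹ :=
        congrArg (fun β : MulAut McL => ((β ⟨x, hx⟩ : McL) : Equiv.Perm leechLattice)) hk
      calc (k : Equiv.Perm leechLattice)⁻¹ * f * x = (k : Equiv.Perm leechLattice)⁻¹ * (f * x * f⁻¹) * f := by group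
        _ = (k : Equiv.Perm leechLattice)⁻¹ * (k * x * (k : Equiv.Perm leechLattice)⁻¹) * f := by rw [h2]
        _ = x * ((k : Equiv.Perm leechLattice)⁻¹ * f) := by group
    obtain ⟨c, hc⟩ : ∃ c : Equiv.Perm leechLattice, c = (k : Equiv.Perm leechLattice)⁻¹ * f := ⟨_, rfl⟩
    rw [← hc] at hcV hcU hcW hc0 hcen
    have hcc : c * c ∈ McL := mem_McL.2 ⟨mul_mem hc0 hc0, by rw [Equiv.Perm.mul_apply, hcV, hcV],
      by rw [Equiv.Perm.mul_apply, hcU, hcW]⟩
    have hcc1 : c * c = 1 := by
      have hz : (⟨c * c, hcc⟩ : McL) ∈ Subgroup.center McL := by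
        rw [Subgroup.mem_center_iff]
        intro x
        apply Subtype.ext
        show (x : Equiv.Perm leechLattice) * (c * c) = c * c * x
        rw [← mul_assoc, ← hcen x x.2, mul_assoc, ← hcen x x.2, mul_assoc]
      have hzb : Subgroup.center McL = ⊥ := by
        rcases IsSimpleGroup.eq_bot_or_eq_top_of_normal (Subgroup.center McL) inferInstance with h | h
        · exact h
        · exfalso
          have hL : L.t * L.t = 1 := L.t_mul_t
          have hcomm : ∀ a b : McL, a * b = b * a := fun a b =>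
            (Subgroup.mem_center_iff.1 (by rw [h]; trivial : b ∈ Subgroup.center McL) a)
          letI : CommGroup McL := { (inferInstance : Group McL) with mul_comm := hcomm }
          have hp := IsSimpleGroup.prime_card (α := McL)
          rw [hcard] at hp
          revert hp
          norm_num
      rw [hzb, Subgroup.mem_bot] at hz
      exact congrArg Subtype.val hz
    refine no_central (c := ⟨⟨c, hc0⟩, hcV⟩) ?_ ?_ hcen
    · intro h
      have h1 : c = 1 := congrArg (fun z : Cfsg.Agent.SporRec.Co3.Chain.G3 => ((z : Co0) : Equiv.Perm leechLattice)) h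
      rw [h1] at hcU
      exact W_ne hcU.symm
    · apply Subtype.ext
      apply Subtype.ext
      exact hcc1
  · intro α β hα hβ
    obtain ⟨g, hg⟩ := TypeM.OuterInst.mul_mem_range L (Or.inl rfl) hG (hne α hα) (hne β hβ)
    exact ⟨g, hg.symm⟩

end Cfsg.Agent.H997.OutMcL

private theorem dce_3cc3bd446f2f : _root_.True := by
  try have : _root_.True := by simp only [_root_.Cfsg.Agent.H997.OutMcL.W.eq_1]
  exact _root_.True.intro
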