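import Cfsg.Agent.KFacts.SuzInvol
import Cfsg.Agent.SuzThree.CentCard
import Cfsg.Agent.SuzThree.Transport
import Cfsg.Agent.CTwoTab.Suz
import Cfsg.Agent.CpAutSuz.Local
set_option linter.all false

/-!
# The automorphism `ρ` of the Suzuki group is outer (helper997)
-/

set_option autoImplicit false
set_option maxRecDepth 100000

namespace Cfsg.Agent.H997.OutSuz

open Cfsg.Spor (Suz)
open Cfsg.Agent.KFacts.SuzRho Cfsg.Agent.SporadicRecognition.SuzOrder Cfsg.Agent.SuzThree.Basic
open Cfsg.Agent.CpAutSuz.Five (Y0 card_Y0 w1 w2)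

theorem rho_outer (n : Suz) : rho ≠ MulAut.conj n := by
  intro h
  have hn2 : n * n = 1 := by
    apply Cfsg.Agent.KFacts.SuzInvol.conj_eq_one
    rw [map_mul, ← h, rho_sq]
  have hn1 : n ≠ 1 := by
    intro h1
    have h2 := Cfsg.Agent.KFacts.SuzInvol.st_p false
    have h3 : Cfsg.Agent.KFacts.SuzInvol.st false = 1 := by
      rw [show Cfsg.Agent.KFacts.SuzInvol.st false = rho from rfl, h, h1, map_one]
    rw [h3, MulAut.one_apply, mul_inv_cancel] at h2
    exact Cfsg.Agent.SuzThree.Transport.z0_ne h2.symm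
  have hfix : ∀ w : List Suz.Gen, w.map sw = w → el w * n = n * el w := by
    intro w hw
    have h1 := rho_el w
    rw [hw, h, MulAut.conj_apply] at h1
    exact (mul_inv_eq_iff_eq_mul.1 h1).symm
  have hle : Y0 ≤ Subgroup.centralizer ({n} : Set Suz) := by
    refine Cfsg.Agent.SuzThree.CentA.cl_le fun w hw => ?_
    rw [Subgroup.mem_centralizer_singleton_iff]
    simp only [List.mem_cons, List.not_mem_nil, or_false] at hw
    rcases hw with rfl | rfl
    · exact hfix w1 rfl
    · exact hfix w2 rfl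
  have h25 : 25 ∣ Nat.card (Subgroup.centralizer ({n} : Set Suz)) := by
    have h1 := Subgroup.card_dvd_of_le hle
    rw [card_Y0] at h1
    exact h1
  have key : ∀ {s t : Suz}, IsConj s t → Nat.card ↥(Subgroup.centralizer ({t} : Set Suz)) =
      Nat.card ↥(Subgroup.centralizer ({s} : Set Suz)) := by
    intro s t h
    obtain ⟨c, rfl⟩ := isConj_iff.1 h
    have h1 := CTwoTab.map_centralizer_singleton (MulAut.conj c) s
    rw [show c * s * c⁻¹ = MulAut.conj c s from rfl, ← h1]
    exact Subgroup.card_map_of_injective (MulAut.conj c).injective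
  rcases CTwoTab.Suz.classes hn2 hn1 with hc | hc
  · rw [key hc] at h25
    have h1 : Nat.card ↥(Subgroup.centralizer ({Cfsg.Agent.SuzThree.CentA.z0} : Set Suz)) = 3317760 := SuzThree.CentCard.card_C1
    rw [h1] at h25
    norm_num at h25
  · rw [key hc] at h25
    have h1 : Nat.card ↥(Subgroup.centralizer ({KFacts.SuzLFour.e0} : Set Suz)) = 161280 := KFacts.SuzTwoB.card_CE
    rw [h1] at h25
    norm_num at h25

end Cfsg.Agent.H997.OutSuz
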